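import Mathlib
import Groth.Agent.EGA418Dim.FFinite
import Groth.Agent.TFExt.Basic

set_option autoImplicit false
universe u

open CategoryTheory CategoryTheory.Abelian

namespace Groth.Agent.PSHyper

attribute [local instance 2000] Ring.toIntAlgebra

variable {k : Type u} [Field k] {n : ℕ}

local notation "P" => MvPowerSeries (Fin n) k

theorem span_dX (p : ℕ) [Fact p.Prime] [CharP k p] [PerfectRing k p] :
    Submodule.span P (Set.range fun i => KaehlerDifferential.D k P (MvPowerSeries.X i)) = ⊤ := by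
  haveI : ExpChar P p :=
    expChar_of_injective_ringHom (f := (MvPowerSeries.C : k →+* P)) (RingHom.injective _) p
  haveI : CharP P p :=
    charP_of_injective_ringHom (f := (MvPowerSeries.C : k →+* P)) (RingHom.injective _) p
  have hk : (frobenius k p).Finite :=
    RingHom.Finite.of_surjective _ (frobeniusEquiv k p).surjective
  haveI : Module.Finite P (Ω[P⁄ℤ]) := EGA418Dim.finite_kaehler_of_frobenius p ℤ P
    (EGA418Dim.finite_frobenius_powerSeries p k hk n)
  haveI : IsScalarTower ℤ k P := IsScalarTower.of_algebraMap_eq' (Subsingleton.elim _ _)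
  have h := EGA418Dim.kaehler_powerSeries_span k n
  rw [eq_top_iff]
  intro w _
  obtain ⟨v, rfl⟩ := KaehlerDifferential.map_surjective ℤ k P w
  have hv : v ∈ (⊤ : Submodule P (Ω[P⁄ℤ])) := Submodule.mem_top
  rw [← h] at hv
  induction hv using Submodule.span_induction with
  | mem y hy =>
    obtain ⟨g, hg, rfl⟩ := hy
    rw [KaehlerDifferential.map_D, Algebra.algebraMap_self, RingHom.id_apply]
    rcases hg with ⟨c, rfl⟩ | ⟨i, rfl⟩
    · rw [show (MvPowerSeries.C c : P) = algebraMap k P c by
        rw [MvPowerSeries.algebraMap_apply, Algebra.algebraMap_self, RingHom.id_apply], Derivation.map_algebraMap]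
      exact zero_mem _
    · exact Submodule.subset_span ⟨i, rfl⟩
  | zero => rw [map_zero]; exact zero_mem _
  | add a b _ _ ha hb => rw [map_add]; exact add_mem (ha Submodule.mem_top) (hb Submodule.mem_top)
  | smul r a _ ha => rw [map_smul]; exact Submodule.smul_mem _ _ (ha Submodule.mem_top)

theorem D_eq_sum (p : ℕ) [Fact p.Prime] [CharP k p] [PerfectRing k p] (g : P) :
    KaehlerDifferential.D k P g =
      ∑ i, MvPowerSeries.pderiv k i g • KaehlerDifferential.D k P (MvPowerSeries.X i) := by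
  obtain ⟨a, ha⟩ := Submodule.mem_span_range_iff_exists_fun P |>.mp
    (span_dX (k := k) (n := n) p ▸ Submodule.mem_top : KaehlerDifferential.D k P g ∈
      Submodule.span P (Set.range fun i => KaehlerDifferential.D k P (MvPowerSeries.X i)))
  have key : ∀ j, a j = MvPowerSeries.pderiv k j g := by
    intro j
    have := congrArg (MvPowerSeries.pderiv k j).liftKaehlerDifferential ha
    simp only [map_sum, map_smul, Derivation.liftKaehlerDifferential_comp_D, smul_eq_mul] at this
    rw [← this, Finset.sum_eq_single j]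
    · rw [MvPowerSeries.pderiv_X_self, mul_one]
    · intro i _ hij
      rw [MvPowerSeries.pderiv_X_of_ne hij, mul_zero]
    · simp
  simp only [← key]
  exact ha.symm

theorem span_derivation_eq (p : ℕ) [Fact p.Prime] [CharP k p] [PerfectRing k p] (f : P) :
    Ideal.span {g : P | ∃ D : Derivation k P P, g = D f} =
      Ideal.span (Set.range fun i => MvPowerSeries.pderiv k i f) := by
  refine le_antisymm (Ideal.span_le.mpr ?_) (Ideal.span_le.mpr ?_)
  · rintro _ ⟨D, rfl⟩
    have h := congrArg D.liftKaehlerDifferential (D_eq_sum p f)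
    simp only [map_sum, map_smul, Derivation.liftKaehlerDifferential_comp_D, smul_eq_mul] at h
    rw [h]
    exact sum_mem fun i _ => Ideal.mul_mem_right _ _ (Ideal.subset_span ⟨i, rfl⟩)
  · rintro _ ⟨i, rfl⟩
    exact Ideal.subset_span ⟨MvPowerSeries.pderiv k i, rfl⟩

theorem X_pow_dvd_of_dvd_mul (s t : Fin n) (hst : s ≠ t) (N : ℕ) (a : P)
    (h : MvPowerSeries.X s ^ N ∣ a * MvPowerSeries.X t ^ N) : MvPowerSeries.X s ^ N ∣ a := by
  classical
  rw [MvPowerSeries.X_pow_dvd_iff] at h ⊢
  intro m hm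
  have := h (m + Finsupp.single t N) (by simpa [Finsupp.single_apply, hst.symm] using hm)
  rwa [MvPowerSeries.X_pow_eq, MvPowerSeries.coeff_add_mul_monomial, mul_one] at this

theorem mem_span_of_pow_smul (hn : 2 ≤ n) (f : P) (hf : f ≠ 0) (N : ℕ) (c : P)
    (h : ∀ x ∈ IsLocalRing.maximalIdeal P ^ N, c * x ∈ Ideal.span {f}) : c ∈ Ideal.span {f} := by
  let s : Fin n := ⟨0, by omega⟩
  let t : Fin n := ⟨1, by omega⟩
  have hst : s ≠ t := by simp [s, t, Fin.ext_iff]
  have hX : ∀ i : Fin n, (MvPowerSeries.X i : P) ∈ IsLocalRing.maximalIdeal P := fun i => by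
    rw [IsLocalRing.mem_maximalIdeal, mem_nonunits_iff, MvPowerSeries.isUnit_iff_constantCoeff,
      MvPowerSeries.constantCoeff_X]
    exact not_isUnit_zero
  obtain ⟨a, ha⟩ := Ideal.mem_span_singleton'.mp (h _ (Ideal.pow_mem_pow (hX s) N))
  obtain ⟨b, hb⟩ := Ideal.mem_span_singleton'.mp (h _ (Ideal.pow_mem_pow (hX t) N))
  have h1 : a * MvPowerSeries.X t ^ N = b * MvPowerSeries.X s ^ N := by
    apply mul_right_cancel₀ hf
    calc a * MvPowerSeries.X t ^ N * f = (a * f) * MvPowerSeries.X t ^ N := by ring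
      _ = c * MvPowerSeries.X t ^ N * MvPowerSeries.X s ^ N := by rw [ha]; ring
      _ = b * MvPowerSeries.X s ^ N * f := by rw [← hb]; ring
  obtain ⟨a', rfl⟩ := X_pow_dvd_of_dvd_mul s t hst N a ⟨b, by rw [h1]; ring⟩
  refine Ideal.mem_span_singleton'.mpr ⟨a', mul_right_cancel₀ (pow_ne_zero N (?_ : (MvPowerSeries.X s : P) ≠ 0)) ?_⟩
  · intro h0
    have := congrArg (MvPowerSeries.coeff (Finsupp.single s 1)) h0
    rw [MvPowerSeries.coeff_index_single_self_X, map_zero] at this
    exact one_ne_zero this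
  · rw [← ha]; ring

variable (f : MvPowerSeries (Fin n) k)

/-- The hypersurface ring. -/
abbrev Hyp : Type u := MvPowerSeries (Fin n) k ⧸ Ideal.span ({f} : Set (MvPowerSeries (Fin n) k))

/-- The gradient of `f` as a map `(Hyp f) → (Hyp f)^n`. -/
noncomputable def grad : (Hyp f) →ₗ[(Hyp f)] (Fin n → (Hyp f)) :=
  LinearMap.toSpanSingleton (Hyp f) (Fin n → (Hyp f)) fun i => Ideal.Quotient.mk _ (MvPowerSeries.pderiv k i f)

theorem grad_apply (a : (Hyp f)) (i : Fin n) :
    grad f a i = a * Ideal.Quotient.mk _ (MvPowerSeries.pderiv k i f) := rfl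

/-- The map `(Hyp f)^n → Ω` sending the basis to the differentials of the variables. -/
noncomputable def piMap : (Fin n → (Hyp f)) →ₗ[(Hyp f)] (Ω[Hyp f⁄k]) :=
  Fintype.linearCombination (Hyp f) fun i => KaehlerDifferential.D k (Hyp f) (Ideal.Quotient.mk _ (MvPowerSeries.X i))

theorem D_mk (p : ℕ) [Fact p.Prime] [CharP k p] [PerfectRing k p] (g : P) :
    KaehlerDifferential.D k (Hyp f) (Ideal.Quotient.mk _ g) =
      piMap f (fun i => Ideal.Quotient.mk _ (MvPowerSeries.pderiv k i g)) := by
  have h := congrArg (KaehlerDifferential.map k k P (Hyp f)) (D_eq_sum p g)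
  simp only [map_sum, map_smul, KaehlerDifferential.map_D, Ideal.Quotient.algebraMap_eq] at h
  rw [h, piMap, Fintype.linearCombination_apply]
  refine Finset.sum_congr rfl fun i _ => ?_
  rw [← Ideal.Quotient.algebraMap_eq, algebraMap_smul]

theorem piMap_surjective (p : ℕ) [Fact p.Prime] [CharP k p] [PerfectRing k p] :
    Function.Surjective (piMap f) := by
  rw [← LinearMap.range_eq_top, eq_top_iff, ← KaehlerDifferential.span_range_derivation,
    Submodule.span_le]
  rintro _ ⟨r, rfl⟩
  obtain ⟨g, rfl⟩ := Ideal.Quotient.mk_surjective r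
  exact ⟨_, (D_mk f p g).symm⟩

/-- The gradient derivation into the cokernel. -/
noncomputable def gradDer : Derivation k (Hyp f) ((Fin n → (Hyp f)) ⧸ LinearMap.range (grad f)) :=
  let L : P →ₗ[k] (Fin n → (Hyp f)) ⧸ LinearMap.range (grad f) :=
    ((LinearMap.range (grad f)).mkQ.restrictScalars k) ∘ₗ LinearMap.pi fun i =>
      (Ideal.Quotient.mkₐ k (Ideal.span {f})).toLinearMap ∘ₗ (MvPowerSeries.pderiv k i).toLinearMap
  have hL : (Ideal.span {f}).restrictScalars k ≤ LinearMap.ker L := by
    intro x hx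
    obtain ⟨a, rfl⟩ := Ideal.mem_span_singleton'.mp hx
    rw [LinearMap.mem_ker]
    show Submodule.Quotient.mk _ = _
    rw [Submodule.Quotient.mk_eq_zero]
    refine ⟨Ideal.Quotient.mk _ a, funext fun i => ?_⟩
    rw [grad_apply]
    show _ = Ideal.Quotient.mk _ (MvPowerSeries.pderiv k i (a * f))
    rw [Derivation.leibniz, smul_eq_mul, smul_eq_mul, map_add, map_mul, map_mul,
      Ideal.Quotient.eq_zero_iff_mem.mpr (Ideal.mem_span_singleton_self f), zero_mul, add_zero]
  Derivation.mk' (Submodule.liftQ ((Ideal.span {f}).restrictScalars k) L hL ∘ₗ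
      (Submodule.Quotient.restrictScalarsEquiv k (Ideal.span {f})).symm.toLinearMap)
    (fun a b => by
      obtain ⟨a, rfl⟩ := Ideal.Quotient.mk_surjective a
      obtain ⟨b, rfl⟩ := Ideal.Quotient.mk_surjective b
      rw [← map_mul]
      show L (a * b) = Ideal.Quotient.mk _ a • L b + Ideal.Quotient.mk _ b • L a
      show Submodule.Quotient.mk _ = _ • Submodule.Quotient.mk _ + _ • Submodule.Quotient.mk _
      rw [← Submodule.Quotient.mk_smul, ← Submodule.Quotient.mk_smul, ← Submodule.Quotient.mk_add]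
      congr 1
      funext i
      show Ideal.Quotient.mk _ (MvPowerSeries.pderiv k i (a * b)) =
        Ideal.Quotient.mk _ a * Ideal.Quotient.mk _ (MvPowerSeries.pderiv k i b) +
          Ideal.Quotient.mk _ b * Ideal.Quotient.mk _ (MvPowerSeries.pderiv k i a)
      rw [Derivation.leibniz, smul_eq_mul, smul_eq_mul, map_add, map_mul, map_mul])

theorem gradDer_mk (g : P) :
    gradDer f (Ideal.Quotient.mk _ g) =
      Submodule.Quotient.mk (fun i => Ideal.Quotient.mk _ (MvPowerSeries.pderiv k i g)) := rfl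

theorem exact_grad (p : ℕ) [Fact p.Prime] [CharP k p] [PerfectRing k p] :
    Function.Exact (grad f) (piMap f) := by
  intro x
  constructor
  · intro hx
    have h := congrArg (gradDer f).liftKaehlerDifferential hx
    rw [piMap, Fintype.linearCombination_apply, map_sum, map_zero] at h
    simp only [map_smul, Derivation.liftKaehlerDifferential_comp_D, gradDer_mk,
      ← Submodule.Quotient.mk_smul] at h
    have h2 : Submodule.Quotient.mk x = (0 : (Fin n → (Hyp f)) ⧸ LinearMap.range (grad f)) := by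
      rw [← h, ← Submodule.mkQ_apply]
      simp only [← Submodule.mkQ_apply, ← map_sum]
      congr 1
      funext j
      rw [Finset.sum_apply, Finset.sum_eq_single j]
      · simp
      · intro i _ hij
        simp [MvPowerSeries.pderiv_X_of_ne hij]
      · simp
    rw [Submodule.Quotient.mk_eq_zero] at h2
    exact h2
  · rintro ⟨a, rfl⟩
    have h1 := D_mk f p f
    rw [Ideal.Quotient.eq_zero_iff_mem.mpr (Ideal.mem_span_singleton_self f), map_zero] at h1
    have h2 : grad f a = a • fun i => Ideal.Quotient.mk _ (MvPowerSeries.pderiv k i f) := rfl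
    rw [h2, map_smul, ← h1, smul_zero]

theorem grad_injective (hn : 2 ≤ n) (p : ℕ) [Fact p.Prime] [CharP k p] [PerfectRing k p]
    (hf : f ≠ 0) (N : ℕ)
    (hN : IsLocalRing.maximalIdeal P ^ N ≤
      Ideal.span {f} ⊔ Ideal.span {g | ∃ D : Derivation k P P, g = D f}) :
    Function.Injective (grad f) := by
  rw [injective_iff_map_eq_zero]
  intro a ha
  obtain ⟨c, rfl⟩ := Ideal.Quotient.mk_surjective a
  rw [Ideal.Quotient.eq_zero_iff_mem]
  refine mem_span_of_pow_smul hn f hf N c fun x hx => ?_
  rw [span_derivation_eq p f] at hN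
  have hle : Ideal.span {f} ⊔ Ideal.span (Set.range fun i => MvPowerSeries.pderiv k i f) ≤
      Submodule.comap (LinearMap.mulLeft P c) (Ideal.span {f}) := by
    refine sup_le (fun y hy => Ideal.mul_mem_left _ _ hy) (Submodule.span_le.mpr ?_)
    rintro _ ⟨i, rfl⟩
    show c * _ ∈ Ideal.span {f}
    rw [← Ideal.Quotient.eq_zero_iff_mem, map_mul]
    exact congrFun ha i
  exact hle (hN hx)

theorem main (hn : 2 ≤ n) (p : ℕ) [Fact p.Prime] [CharP k p] [PerfectRing k p]
    (hf : f ≠ 0) (N : ℕ)
    (hN : IsLocalRing.maximalIdeal P ^ N ≤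
      Ideal.span {f} ⊔ Ideal.span {g | ∃ D : Derivation k P P, g = D f}) :
    Subsingleton (Ext (ModuleCat.of (Hyp f) (Ω[Hyp f⁄k])) (ModuleCat.of (Hyp f) (Hyp f)) 2) ∧
      Nonempty (Ext (ModuleCat.of (Hyp f) (Ω[Hyp f⁄k])) (ModuleCat.of (Hyp f) (Hyp f)) 1 ≃ₗ[(Hyp f)]
        (Hyp f) ⧸ Ideal.map (Ideal.Quotient.mk (Ideal.span {f}))
          (Ideal.span {g | ∃ D : Derivation k P P, g = D f})) := by
  have hinj := grad_injective f hn p hf N hN
  have hsur := piMap_surjective f p
  have hex := exact_grad f p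
  refine ⟨subsingleton_of_forall_eq 0 fun x => ?_, ?_⟩
  · let S : ShortComplex (ModuleCat.{u} (Hyp f)) := ShortComplex.mk (ModuleCat.ofHom (grad f))
      (ModuleCat.ofHom (piMap f)) (ModuleCat.hom_ext (LinearMap.ext fun y => hex.apply_apply_eq_zero y))
    have hS : S.ShortExact := by
      refine { exact := ?_, mono_f := ?_, epi_g := ?_ }
      · rw [ShortComplex.moduleCat_exact_iff_ker_sub_range]
        intro x hx
        exact (hex x).1 hx
      · exact (ModuleCat.mono_iff_injective _).2 hinj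
      · exact (ModuleCat.epi_iff_surjective _).2 hsur
    haveI : Projective S.X₂ := inferInstanceAs (Projective (ModuleCat.of (Hyp f) (Fin n → (Hyp f))))
    haveI : Projective S.X₁ := inferInstanceAs (Projective (ModuleCat.of (Hyp f) (Hyp f)))
    obtain ⟨x₁, hx₁⟩ := Ext.contravariant_sequence_exact₃ hS (ModuleCat.of (Hyp f) (Hyp f)) x
      (Ext.eq_zero_of_projective _) (n₀ := 1) (by lia)
    rw [← hx₁, Ext.eq_zero_of_projective x₁, Ext.comp_zero]
  · obtain ⟨e⟩ := TFExt.ext_one_of_presentation (N := (Hyp f)) (grad f) (piMap f) hinj hsur hex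
    refine ⟨e.trans (Submodule.Quotient.equiv _ _ (LinearMap.ringLmapEquivSelf (Hyp f) (Hyp f) (Hyp f)) ?_)⟩
    rw [span_derivation_eq p f, Ideal.map_span, ← Set.range_comp]
    apply le_antisymm
    · rintro _ ⟨_, ⟨ψ, rfl⟩, rfl⟩
      show ψ (grad f 1) ∈ _
      rw [← (Pi.basisFun (Hyp f) (Fin n)).sum_repr (grad f 1), map_sum]
      refine sum_mem fun i _ => ?_
      rw [map_smul, smul_eq_mul, Pi.basisFun_repr, grad_apply, one_mul]
      exact Ideal.mul_mem_right _ _ (Ideal.subset_span ⟨i, rfl⟩)
    · refine Submodule.span_le.mpr ?_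
      rintro _ ⟨i, rfl⟩
      refine ⟨(grad f).lcomp (Hyp f) (Hyp f) (LinearMap.proj i), ⟨LinearMap.proj i, rfl⟩, ?_⟩
      show grad f 1 i = _
      rw [grad_apply, one_mul]
      rfl

end Groth.Agent.PSHyper
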